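import Cfsg.Agent.LargeExtra.Heis

/-!
Automorphisms of the extraspecial group of order 32 of minus type: they induce the symmetric group
on the five classes of non-central involutions.
-/

set_option autoImplicit false

namespace Cfsg.Agent.ExtraMinus

open Cfsg.Agent.LargeExtra

/-- The model. -/
abbrev M := Heis 1 1

instance : DecidableEq M := fun x y => decidable_of_iff (x.v = y.v ∧ x.s = y.s) Heis.ext_iff.symm

instance : Fintype M :=
  Fintype.ofEquiv (HV 1 × ZMod 2) ⟨fun p => ⟨p.1, p.2⟩, fun x => (x.v, x.s), fun _ => rfl, fun _ => rfl⟩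

/-- Representatives of the five classes of non-central involutions. -/
def gen : Fin 5 → M
  | 0 => ⟨(![0, 1], ![0, 0]), 0⟩
  | 1 => ⟨(![0, 0], ![0, 1]), 0⟩
  | 2 => ⟨(![1, 1], ![0, 1]), 0⟩
  | 3 => ⟨(![0, 1], ![1, 1]), 0⟩
  | 4 => ⟨(![1, 1], ![1, 1]), 0⟩

/-- The central involution. -/
def zed : M := ⟨0, 1⟩

/-- The class containing an element. -/
def idx (x : M) : Fin 5 :=
  if x.v = (gen 0).v then 0 else if x.v = (gen 1).v then 1 else if x.v = (gen 2).v then 2
  else if x.v = (gen 3).v then 3 else 4

/-- The power with exponent in `ZMod 2`. -/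
def pw (x : M) (e : ZMod 2) : M := if e = 0 then 1 else x

/-- The ordered product of images of the four generators. -/
def word (t : Fin 5 → M) (x : M) : M :=
  pw (t 0) (x.v.1 1 + x.v.1 0 + x.v.2 0) * pw (t 1) (x.v.2 1 + x.v.1 0 + x.v.2 0) *
    pw (t 2) (x.v.1 0) * pw (t 3) (x.v.2 0)

/-- The map determined by a permutation of the classes. -/
def lift (σ : Fin 5 → Fin 5) (x : M) : M :=
  pw zed (x.s + (word gen x).s) * word (fun k => gen (σ k)) x

theorem idx_gen : ∀ k, idx (gen k) = k := by decide +kernel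

theorem idx_mul_zed : ∀ x, idx (x * zed) = idx x := by decide +kernel

theorem mem_class : ∀ x : M, x * x = 1 → x = 1 ∨ x = zed ∨ x = gen (idx x) ∨ x = gen (idx x) * zed := by
  decide +kernel

theorem gen_sq : ∀ k, gen k * gen k = 1 ∧ gen k ≠ 1 ∧ gen k ≠ zed := by decide +kernel

theorem word_gen : ∀ x : M, x = pw zed (x.s + (word gen x).s) * word gen x := by decide +kernel

theorem conj_class : ∀ (x : M) (k : Fin 5), idx (x * gen k * x⁻¹) = k := by decide +kernel

/-- The transposition. -/
def swp : Fin 5 → Fin 5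
  | 0 => 1
  | 1 => 0
  | 2 => 2
  | 3 => 3
  | 4 => 4

/-- The five-cycle. -/
def cyc : Fin 5 → Fin 5 := fun k => k + 1

theorem lift_swp : (∀ x y, lift swp (x * y) = lift swp x * lift swp y) ∧
    Function.Injective (lift swp) ∧ ∀ k, idx (lift swp (gen k)) = swp k := by
  refine ⟨?_, ?_, ?_⟩
  · decide +kernel
  · intro x y; revert x y; decide +kernel
  · decide +kernel

theorem lift_cyc : (∀ x y, lift cyc (x * y) = lift cyc x * lift cyc y) ∧
    Function.Injective (lift cyc) ∧ ∀ k, idx (lift cyc (gen k)) = cyc k := by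
  refine ⟨?_, ?_, ?_⟩
  · decide +kernel
  · intro x y; revert x y; decide +kernel
  · decide +kernel

theorem center_eq : ∀ x : M, (∀ y, x * y = y * x) → x = 1 ∨ x = zed := by decide +kernel

theorem zed_facts : (∀ x : M, zed * x = x * zed) ∧ zed ≠ 1 := by
  refine ⟨?_, ?_⟩ <;> decide +kernel

theorem map_zed (α : MulAut M) : α zed = zed := by
  refine (center_eq (α zed) fun y => ?_).resolve_left fun h => zed_facts.2 ?_
  · obtain ⟨x, rfl⟩ := α.surjective y
    rw [← map_mul, ← map_mul, zed_facts.1]
  · exact α.injective (h.trans (map_one α).symm)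

theorem idx_map (α : MulAut M) (x : M) (hx : x * x = 1) (h1 : x ≠ 1) (hz : x ≠ zed) :
    idx (α x) = idx (α (gen (idx x))) := by
  rcases mem_class x hx with h | h | h | h
  · exact absurd h h1
  · exact absurd h hz
  · rw [← h]
  · conv_lhs => rw [h]
    rw [map_mul, map_zed, idx_mul_zed]

theorem idx_comp (α β : MulAut M) (k : Fin 5) :
    idx ((α * β) (gen k)) = idx (α (gen (idx (β (gen k))))) := by
  obtain ⟨hsq, h1, h2⟩ := gen_sq k
  show idx (α (β (gen k))) = _
  refine idx_map α _ (by rw [← map_mul, hsq, map_one]) (fun h => h1 ?_) (fun h => h2 ?_)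
  · exact EquivLike.injective β (h.trans (map_one β).symm)
  · exact EquivLike.injective β (h.trans (map_zed β).symm)

/-- The action on the five classes. -/
def actHom : MulAut M →* Equiv.Perm (Fin 5) where
  toFun α :=
    { toFun := fun k => idx (α (gen k))
      invFun := fun k => idx (α⁻¹ (gen k))
      left_inv := fun k => by
        show idx (α⁻¹ (gen (idx (α (gen k))))) = k
        rw [← idx_comp, inv_mul_cancel, MulAut.one_apply, idx_gen]
      right_inv := fun k => by
        show idx (α (gen (idx (α⁻¹ (gen k))))) = k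
        rw [← idx_comp, mul_inv_cancel, MulAut.one_apply, idx_gen] }
  map_one' := by
    ext k
    simp [idx_gen]
  map_mul' α β := by
    ext k
    exact congrArg Fin.val (idx_comp α β k)

theorem actHom_apply (α : MulAut M) (k : Fin 5) : actHom α k = idx (α (gen k)) := rfl

theorem mem_range_of_lift (σ : Fin 5 → Fin 5) (hm : ∀ x y, lift σ (x * y) = lift σ x * lift σ y)
    (hi : Function.Injective (lift σ)) (hk : ∀ k, idx (lift σ (gen k)) = σ k)
    (p : Equiv.Perm (Fin 5)) (hp : ∀ k, p k = σ k) : p ∈ actHom.range := by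
  generalize hf : lift σ = f at hm hi hk
  exact ⟨MulEquiv.ofBijective (MonoidHom.mk' f hm) (Finite.injective_iff_bijective.1 hi),
    Equiv.ext fun k => (hk k).trans (hp k).symm⟩

theorem actHom_surjective : Function.Surjective actHom := by
  rw [← MonoidHom.range_eq_top, eq_top_iff]
  have hc : (finRotate 5).IsCycle := isCycle_finRotate
  rw [← Equiv.Perm.closure_cycle_adjacent_swap hc support_finRotate 0, Subgroup.closure_le]
  rintro p (rfl | rfl)
  · exact mem_range_of_lift cyc lift_cyc.1 lift_cyc.2.1 lift_cyc.2.2 _ (by decide)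
  · exact mem_range_of_lift swp lift_swp.1 lift_swp.2.1 lift_swp.2.2 _ (by decide)

theorem card_ker_le : Nat.card actHom.ker ≤ 16 := by
  have hkey : ∀ α ∈ actHom.ker, ∀ k, α (gen k) = gen k ∨ α (gen k) = gen k * zed := by
    intro α hα k
    have hk : idx (α (gen k)) = k := congrArg (fun p : Equiv.Perm (Fin 5) => p k) (MonoidHom.mem_ker.1 hα)
    obtain ⟨hsq, h1, h2⟩ := gen_sq k
    rcases mem_class (α (gen k)) (by rw [← map_mul, hsq, map_one]) with h | h | h | h
    · exact absurd (α.injective (h.trans (map_one α).symm)) h1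
    · exact absurd (α.injective (h.trans (map_zed α).symm)) h2
    · exact Or.inl (by rwa [hk] at h)
    · exact Or.inr (by rwa [hk] at h)
  refine (Nat.card_le_card_of_injective
    (fun α : actHom.ker => fun i : Fin 4 => decide ((α : MulAut M) (gen i.castSucc) = gen i.castSucc)) ?_).trans
    (le_of_eq (by simp))
  intro α β h
  have hg : ∀ i : Fin 4, (α : MulAut M) (gen i.castSucc) = (β : MulAut M) (gen i.castSucc) := by
    intro i
    have h' := decide_eq_decide.1 (congrFun h i)
    rcases hkey _ α.2 i.castSucc with ha | ha <;> rcases hkey _ β.2 i.castSucc with hb | hb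
    · rw [ha, hb]
    · rw [ha, h'.1 ha]
    · rw [hb, h'.2 hb]
    · rw [ha, hb]
  refine Subtype.ext (MulEquiv.ext fun x => ?_)
  have hpw : ∀ (γ : MulAut M) (u : M) (e : ZMod 2), γ (pw u e) = pw (γ u) e := by
    intro γ u e
    unfold pw
    split_ifs <;> simp
  have g0 : (α : MulAut M) (gen 0) = (β : MulAut M) (gen 0) := hg 0
  have g1 : (α : MulAut M) (gen 1) = (β : MulAut M) (gen 1) := hg 1
  have g2 : (α : MulAut M) (gen 2) = (β : MulAut M) (gen 2) := hg 2
  have g3 : (α : MulAut M) (gen 3) = (β : MulAut M) (gen 3) := hg 3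
  rw [word_gen x]
  simp only [word, map_mul, hpw, map_zed, g0, g1, g2, g3]

theorem card_inn : Nat.card (MulAut.conj : M →* MulAut M).range = 16 := by
  rw [← Subgroup.index_ker]
  have hk : ((MulAut.conj : M →* MulAut M).ker : Set M) = {1, zed} := by
    ext x
    simp only [SetLike.mem_coe, MonoidHom.mem_ker, Set.mem_insert_iff, Set.mem_singleton_iff]
    constructor
    · intro h
      refine center_eq x fun y => ?_
      have := DFunLike.congr_fun h y
      exact mul_inv_eq_iff_eq_mul.1 this
    · rintro (rfl | rfl)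
      · exact map_one _
      · ext y <;> simp [MulAut.conj_apply, zed_facts.1]
  have h2 : Nat.card (MulAut.conj : M →* MulAut M).ker = 2 := by
    rw [← SetLike.coe_sort_coe, Nat.card_coe_set_eq, hk, Set.ncard_pair zed_facts.2.symm]
  have := (MulAut.conj : M →* MulAut M).ker.card_mul_index
  rw [h2, Heis.card] at this
  omega

theorem ker_eq : actHom.ker = (MulAut.conj : M →* MulAut M).range := by
  refine (Subgroup.eq_of_le_of_card_ge ?_ (card_inn.symm ▸ card_ker_le)).symm
  rintro _ ⟨x, rfl⟩
  exact MonoidHom.mem_ker.2 (Equiv.ext fun k => conj_class x k)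

end Cfsg.Agent.ExtraMinus
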