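import Cfsg.Agent.ExtraMinus.Aut

/-!
Fixed points of automorphisms of order two of the minus type group of order 32 acting on the five
classes as a double transposition.
-/

set_option autoImplicit false

namespace Cfsg.Agent.ExtraMinus

/-- A double transposition. -/
def dsw : Fin 5 → Fin 5
  | 0 => 0
  | 1 => 4
  | 2 => 3
  | 3 => 2
  | 4 => 1

theorem lift_dsw : (∀ x y, lift dsw (x * y) = lift dsw x * lift dsw y) ∧
    Function.Injective (lift dsw) ∧ ∀ k, idx (lift dsw (gen k)) = dsw k := by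
  refine ⟨?_, ?_, ?_⟩
  · decide +kernel
  · intro x y; revert x y; decide +kernel
  · decide +kernel

theorem fixed_dsw : ∀ x : M,
    (∀ y : M, x * lift dsw (x * lift dsw y * x⁻¹) * x⁻¹ = y) →
    (∃ v : M, x * lift dsw v * x⁻¹ = v ∧ v * v = 1 ∧ v ≠ 1 ∧ v ≠ zed) →
    (Finset.univ.filter fun y : M => x * lift dsw y * x⁻¹ = y).card ≤ 4 := by
  decide +kernel

theorem fixed_dsw_le {α : MulAut M} (h : ∀ k, actHom α k = dsw k) (h2 : α * α = 1)
    (hv : ∃ v : M, α v = v ∧ v * v = 1 ∧ v ≠ 1 ∧ v ≠ zed) :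
    Nat.card {y : M // α y = y} ≤ 4 := by
  obtain ⟨L, hL⟩ : ∃ L : MulAut M, ∀ y, L y = lift dsw y :=
    ⟨MulEquiv.ofBijective (MonoidHom.mk' (lift dsw) lift_dsw.1)
      (Finite.injective_iff_bijective.1 lift_dsw.2.1), fun _ => rfl⟩
  have hk : α * L⁻¹ ∈ actHom.ker := by
    have e : actHom α = actHom L := Equiv.ext fun k => by
      rw [h k, actHom_apply L k, hL, lift_dsw.2.2 k]
    rw [MonoidHom.mem_ker, map_mul, map_inv, e, mul_inv_cancel]
  rw [ker_eq] at hk
  obtain ⟨x, hx⟩ := hk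
  have e : ∀ y, α y = x * lift dsw y * x⁻¹ := by
    intro y
    have := congrArg (fun β : MulAut M => β (L y)) hx
    simp only [MulAut.mul_apply, MulAut.inv_apply, MulEquiv.symm_apply_apply, MulAut.conj_apply] at this
    rw [← this, hL]
  have hfix := fixed_dsw x (fun y => by rw [← e, ← e, ← MulAut.mul_apply, h2, MulAut.one_apply])
    (by simpa only [← e] using hv)
  classical
  rw [Nat.card_eq_fintype_card, Fintype.card_subtype]
  simpa only [← e] using hfix

theorem fixed_le {α : MulAut M} {g : Equiv.Perm (Fin 5)} (h : ∀ k, g (actHom α (g⁻¹ k)) = dsw k)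
    (h2 : α * α = 1) (hv : ∃ v : M, α v = v ∧ v * v = 1 ∧ v ≠ 1 ∧ v ≠ zed) :
    Nat.card {y : M // α y = y} ≤ 4 := by
  obtain ⟨γ, hγ⟩ := actHom_surjective g
  set β := γ * α * γ⁻¹ with hβ
  have hb := fixed_dsw_le (α := β) (fun k => by
      rw [hβ, map_mul, map_mul, map_inv, hγ, Equiv.Perm.mul_apply, Equiv.Perm.mul_apply, h k])
    (by rw [hβ, show γ * α * γ⁻¹ * (γ * α * γ⁻¹) = γ * (α * α) * γ⁻¹ by group, h2, mul_one, mul_inv_cancel])
    (by
      obtain ⟨v, h1, h3, h4, h5⟩ := hv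
      refine ⟨γ v, by simp [hβ, h1], by rw [← map_mul, h3, map_one], ?_, ?_⟩
      · exact fun h' => h4 (γ.injective (h'.trans (map_one γ).symm))
      · exact fun h' => h5 (γ.injective (h'.trans (map_zed γ).symm)))
  refine le_trans (le_of_eq (Nat.card_congr ((γ : M ≃* M).toEquiv.subtypeEquiv fun y => ?_))) hb
  simp [hβ]

end Cfsg.Agent.ExtraMinus
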